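import Mathlib.Analysis.SpecialFunctions.Complex.Circle
import Mathlib.RingTheory.RootsOfUnity.Complex
import Mathlib.Data.Fin.Tuple.Sort
import Mathlib.Logic.Equiv.Fin.Rotate
import Mathlib.LinearAlgebra.Matrix.Determinant.Basic
import Mathlib.LinearAlgebra.Matrix.SchurComplement
import Mathlib.LinearAlgebra.Vandermonde
import Mathlib.GroupTheory.Perm.Fin

/-!
# Finite sums of products of alternants at roots of unity
-/

open Finset

namespace GrothLib.Verlinde

/-- The product of two alternants. -/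
noncomputable def G {r : ℕ} (x y : Fin r → ℂ) (w : Fin r → ℕ) : ℂ :=
  (Matrix.of fun i j => x i ^ w j).det * (Matrix.of fun i j => y i ^ w j).det

variable {r n N : ℕ}

lemma G_perm (x y : Fin r → ℂ) (w : Fin r → ℕ) (σ : Equiv.Perm (Fin r)) :
    G x y (w ∘ σ) = G x y w := by
  have h : ∀ z : Fin r → ℂ, (Matrix.of fun i j => z i ^ w (σ j)).det =
      (Equiv.Perm.sign σ : ℂ) * (Matrix.of fun i j => z i ^ w j).det := fun z => by
    rw [← Matrix.det_permute']; rfl
  simp only [G, Function.comp_apply, h]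
  rw [mul_mul_mul_comm, ← Int.cast_mul, Int.units_coe_mul_self, Int.cast_one, one_mul]

lemma G_eq_zero (x y : Fin r → ℂ) (w : Fin r → ℕ) {i j : Fin r} (hij : i ≠ j) (h : w i = w j) :
    G x y w = 0 := by
  rw [G, Matrix.det_zero_of_column_eq hij (fun l => by simp [h]), zero_mul]

lemma G_add_const (x y : Fin r → ℂ) (hx : ∏ i, x i = 1) (hy : ∏ i, y i = 1) (w : Fin r → ℕ) (t : ℕ) :
    G x y (fun j => w j + t) = G x y w := by
  have h : ∀ z : Fin r → ℂ, (∏ i, z i = 1) →
      (Matrix.of fun i j => z i ^ (w j + t)).det = (Matrix.of fun i j => z i ^ w j).det := fun z hz => by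
    rw [show (Matrix.of fun i j => z i ^ (w j + t)) = Matrix.of fun i j => z i ^ t * (Matrix.of fun i j => z i ^ w j) i j from
      Matrix.ext fun i j => by simp [pow_add, mul_comm], Matrix.det_mul_column, Finset.prod_pow, hz, one_pow, one_mul]
  simp only [G, h x hx, h y hy]

lemma G_update_add (x y : Fin r → ℂ) {a b : ℂ} (hx : ∀ i, x i ^ N = a) (hy : ∀ i, y i ^ N = b)
    (w : Fin r → ℕ) (l : Fin r) :
    G x y (Function.update w l (w l + N)) = a * b * G x y w := by
  classical
  have h : ∀ (z : Fin r → ℂ) (c : ℂ), (∀ i, z i ^ N = c) →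
      (Matrix.of fun i j => z i ^ Function.update w l (w l + N) j).det =
        c * (Matrix.of fun i j => z i ^ w j).det := fun z c hz => by
    rw [show (Matrix.of fun i j => z i ^ Function.update w l (w l + N) j) =
      Matrix.of fun i j => (if j = l then c else 1) * (Matrix.of fun i j => z i ^ w j) i j from
      Matrix.ext fun i j => by
        by_cases hj : j = l
        · subst hj; simp [pow_add, hz, mul_comm]
        · simp [hj], Matrix.det_mul_row, Finset.prod_ite_eq' Finset.univ l (fun _ => c)]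
    simp
  simp only [G, h x a hx, h y b hy]
  ring

/-- Symmetric functions vanishing off the injective tuples are sums over ordered tuples. -/
lemma factorial_mul_sum_strictAnti (F : (Fin n → Fin N) → ℂ)
    (hsymm : ∀ v (π : Equiv.Perm (Fin n)), F (v ∘ π) = F v)
    (hzero : ∀ v, ¬ Function.Injective v → F v = 0) :
    (n.factorial : ℂ) * ∑ v ∈ (univ : Finset (Fin n → Fin N)).filter StrictAnti, F v = ∑ u, F u := by
  classical
  have key : ∑ p ∈ ((univ : Finset (Fin n → Fin N)).filter StrictAnti) ×ˢ (univ : Finset (Equiv.Perm (Fin n))),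
      F p.1 = ∑ u ∈ (univ : Finset (Fin n → Fin N)).filter Function.Injective, F u := by
    refine Finset.sum_bij (fun p _ => p.1 ∘ p.2) (fun p hp => ?_) (fun p hp p' hp' h => ?_) (fun u hu => ?_)
      (fun p _ => (hsymm p.1 p.2).symm)
    · simp only [mem_product, mem_filter] at hp ⊢
      exact ⟨mem_univ _, hp.1.2.injective.comp p.2.injective⟩
    · simp only [mem_product, mem_filter] at hp hp'
      have hr : Set.range p.1 = Set.range p'.1 := by
        rw [← EquivLike.range_comp p.1 p.2, ← EquivLike.range_comp p'.1 p'.2]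
        exact congrArg Set.range h
      have h1 : p.1 = p'.1 := (StrictAnti.range_inj hp.1.2 hp'.1.2).mp hr
      refine Prod.ext h1 (Equiv.ext fun i => hp.1.2.injective ?_)
      have := congrFun h i
      simp only [Function.comp_apply, ← h1] at this
      exact this
    · simp only [mem_filter] at hu
      have hm : StrictMono (u ∘ Tuple.sort u) :=
        (Tuple.monotone_sort u).strictMono_of_injective (hu.2.comp (Tuple.sort u).injective)
      refine ⟨(fun i => (u ∘ Tuple.sort u) i.rev, (Tuple.sort u)⁻¹.trans Fin.revPerm), ?_, ?_⟩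
      · simp only [mem_product, mem_filter, mem_univ, true_and, and_true]
        exact fun i j hij => hm (Fin.rev_lt_rev.mpr hij)
      · funext i
        simp
  rw [← Finset.sum_filter_of_ne (p := Function.Injective) (s := (univ : Finset (Fin n → Fin N))) (f := F)
      (fun v _ hv => not_not.mp fun h => hv (hzero v h)), ← key, Finset.sum_product, Finset.mul_sum]
  refine Finset.sum_congr rfl fun v _ => ?_
  simp only []
  rw [Finset.sum_const, Finset.card_univ, Fintype.card_perm, Fintype.card_fin, nsmul_eq_mul]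

/-- The index set of tuples with last entry `0`. -/
abbrev pinned (n N : ℕ) : Finset (Fin (n + 1) → Fin N) :=
  (univ : Finset (Fin (n + 1) → Fin N)).filter
    (fun v : Fin (n + 1) → Fin N => StrictAnti v ∧ ∀ i : Fin (n + 1), (i : ℕ) = n + 1 - 1 → (v i : ℕ) = 0)

lemma last_of_pinned {v : Fin (n + 1) → Fin N} (hv : v ∈ pinned n N) : (v (Fin.last n) : ℕ) = 0 :=
  (mem_filter.mp hv).2.2 _ rfl

lemma factorial_mul_sum_pinned [NeZero N] (x y : Fin (n + 1) → ℂ) :
    (n.factorial : ℂ) * ∑ v ∈ pinned n N, G x y (fun j => (v j : ℕ)) =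
      ∑ u : Fin n → Fin N, G x y (Fin.snoc (fun j => (u j : ℕ)) 0) := by
  classical
  rw [← factorial_mul_sum_strictAnti (fun u : Fin n → Fin N => G x y (Fin.snoc (fun j => (u j : ℕ)) 0))]
  · congr 1
    refine Finset.sum_bij_ne_zero (fun v _ _ => v ∘ Fin.castSucc) (fun v hv _ => ?_)
      (fun v hv _ v' hv' _ h => ?_) (fun u hu hne => ?_) (fun v hv _ => ?_)
    · exact mem_filter.mpr ⟨mem_univ _, (mem_filter.mp hv).2.1.comp_strictMono Fin.strictMono_castSucc⟩
    · refine funext fun i => Fin.lastCases ?_ (fun j => congrFun h j) i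
      exact Fin.ext ((last_of_pinned hv).trans (last_of_pinned hv').symm)
    · have hu' := (mem_filter.mp hu).2
      have hpos : ∀ j, (u j : ℕ) ≠ 0 := fun j hj => hne (G_eq_zero x y _
        (Fin.castSucc_lt_last j).ne (by simp [hj]))
      have hv : (Fin.snoc u 0 : Fin (n + 1) → Fin N) ∈ pinned n N := by
        refine mem_filter.mpr ⟨mem_univ _, fun i j hij => ?_, fun i hi => ?_⟩
        · cases j using Fin.lastCases with
          | last =>
            cases i using Fin.lastCases with
            | last => exact absurd hij (lt_irrefl _)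
            | cast i =>
              simp only [Fin.snoc_last, Fin.snoc_castSucc, Fin.lt_def, Fin.val_zero]
              exact Nat.pos_of_ne_zero (hpos i)
          | cast j =>
            cases i using Fin.lastCases with
            | last => exact absurd (hij.trans (Fin.castSucc_lt_last j)) (lt_irrefl _)
            | cast i => simpa using hu' (Fin.castSucc_lt_castSucc_iff.mp hij)
        · rw [show i = Fin.last n from Fin.ext hi]
          simp
      refine ⟨Fin.snoc u 0, hv, ?_, funext fun j => by simp⟩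
      intro h0
      apply hne
      rw [← h0]
      congr 1
      refine funext fun i => Fin.lastCases ?_ (fun j => ?_) i <;> simp
    · congr 1
      refine funext fun i => Fin.lastCases ?_ (fun j => ?_) i
      · simp [last_of_pinned hv]
      · simp
  · intro v π
    let e : Equiv.Perm (Fin (n + 1)) :=
      { toFun := Fin.lastCases (Fin.last n) fun j => (π j).castSucc
        invFun := Fin.lastCases (Fin.last n) fun j => (π.symm j).castSucc
        left_inv := fun i => Fin.lastCases (by simp) (fun j => by simp) i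
        right_inv := fun i => Fin.lastCases (by simp) (fun j => by simp) i }
    refine Eq.trans ?_ (G_perm x y _ e)
    congr 1
    refine funext fun i => Fin.lastCases ?_ (fun j => ?_) i <;> simp [e]
  · intro v hv
    obtain ⟨i, j, h, hij⟩ := Function.not_injective_iff.mp hv
    exact G_eq_zero x y _ (fun h' => hij (Fin.castSucc_injective _ h')) (by simp [h])

lemma sum_G_snoc (x y : Fin (n + 1) → ℂ) :
    ∑ u : Fin n → Fin N, G x y (Fin.snoc (fun j => (u j : ℕ)) 0) =
      ∑ σ : Equiv.Perm (Fin (n + 1)), ∑ τ : Equiv.Perm (Fin (n + 1)),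
        ((Equiv.Perm.sign σ : ℂ) * (Equiv.Perm.sign τ : ℂ)) *
          ∏ j : Fin n, ∑ t : Fin N, (x (σ j.castSucc) * y (τ j.castSucc)) ^ (t : ℕ) := by
  classical
  have hdet : ∀ (z : Fin (n + 1) → ℂ) (w : Fin n → ℕ),
      (Matrix.of fun i j => z i ^ (Fin.snoc w 0 : Fin (n + 1) → ℕ) j).det =
        ∑ σ : Equiv.Perm (Fin (n + 1)), (Equiv.Perm.sign σ : ℂ) * ∏ j : Fin n, z (σ j.castSucc) ^ w j := by
    intro z w
    rw [Matrix.det_apply']
    refine Finset.sum_congr rfl fun σ _ => ?_
    rw [Fin.prod_univ_castSucc]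
    simp
  simp only [G, hdet, Finset.sum_mul_sum]
  rw [Finset.sum_comm]
  refine Finset.sum_congr rfl fun σ _ => ?_
  rw [Finset.sum_comm]
  refine Finset.sum_congr rfl fun τ _ => ?_
  rw [Fintype.prod_sum, Finset.mul_sum]
  refine Finset.sum_congr rfl fun u _ => ?_
  simp only [mul_pow, Finset.prod_mul_distrib]
  ring

/-- One step of the rotation of pinned tuples. -/
lemma sum_pinned_eq_mul {m : ℕ} [NeZero N] (x y : Fin (m + 2) → ℂ) {a b : ℂ} (hx : ∀ i, x i ^ N = a)
    (hy : ∀ i, y i ^ N = b) (hx1 : ∏ i, x i = 1) (hy1 : ∏ i, y i = 1) :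
    ∑ v ∈ pinned (m + 1) N, G x y (fun j => (v j : ℕ)) =
      a * b * ∑ v ∈ pinned (m + 1) N, G x y (fun j => (v j : ℕ)) := by
  classical
  let p : (Fin (m + 2) → Fin N) → ℕ := fun v => (v (Fin.last m).castSucc : ℕ)
  let R : (Fin (m + 2) → Fin N) → (Fin (m + 2) → Fin N) := fun v =>
    Fin.cons (Fin.ofNat N (N - p v)) fun j => Fin.ofNat N ((v j.castSucc : ℕ) - p v)
  have facts : ∀ v ∈ pinned (m + 1) N, 0 < p v ∧ (∀ j : Fin (m + 1), p v ≤ (v j.castSucc : ℕ)) ∧ p v < N := by
    intro v hv
    have hanti := (mem_filter.mp hv).2.1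
    refine ⟨?_, fun j => ?_, (v _).2⟩
    · have := hanti (Fin.castSucc_lt_last (Fin.last m))
      have h0 := last_of_pinned hv
      show 0 < (v (Fin.last m).castSucc : ℕ)
      have : (v (Fin.last (m + 1)) : ℕ) < (v (Fin.last m).castSucc : ℕ) := this
      omega
    · exact hanti.antitone (Fin.castSucc_le_castSucc_iff.mpr (Fin.le_last j))
  have hR0 : ∀ v ∈ pinned (m + 1) N, ((R v 0 : Fin N) : ℕ) = N - p v := by
    intro v hv
    obtain ⟨h1, -, h3⟩ := facts v hv
    simp only [R, Fin.cons_zero, Fin.val_ofNat]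
    exact Nat.mod_eq_of_lt (by omega)
  have hRs : ∀ v ∈ pinned (m + 1) N, ∀ j, ((R v (Fin.succ j) : Fin N) : ℕ) = (v j.castSucc : ℕ) - p v := by
    intro v hv j
    simp only [R, Fin.cons_succ, Fin.val_ofNat]
    exact Nat.mod_eq_of_lt (by have := (v j.castSucc).2; omega)
  have hmem : ∀ v ∈ pinned (m + 1) N, R v ∈ pinned (m + 1) N := by
    intro v hv
    obtain ⟨h1, h2, h3⟩ := facts v hv
    have hanti := (mem_filter.mp hv).2.1
    refine mem_filter.mpr ⟨mem_univ _, fun i j hij => ?_, fun i hi => ?_⟩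
    · show (R v j : ℕ) < (R v i : ℕ)
      cases j using Fin.cases with
      | zero => exact absurd hij (Fin.not_lt_zero i)
      | succ j =>
        cases i using Fin.cases with
        | zero =>
          rw [hR0 v hv, hRs v hv]
          have := (v j.castSucc).2
          have := h2 j
          omega
        | succ i =>
          rw [hRs v hv, hRs v hv]
          have : (v j.castSucc : ℕ) < (v i.castSucc : ℕ) :=
            hanti (Fin.castSucc_lt_castSucc_iff.mpr (Fin.succ_lt_succ_iff.mp hij))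
          have := h2 j
          omega
    · rw [show i = (Fin.last m).succ from Fin.ext (by simpa using hi), hRs v hv]
      exact Nat.sub_self _
  have hinj : Set.InjOn R (pinned (m + 1) N : Finset _) := by
    intro v hv v' hv' h
    obtain ⟨-, h2, h3⟩ := facts v hv
    obtain ⟨-, h2', h3'⟩ := facts v' hv'
    have e0 : N - p v = N - p v' := by rw [← hR0 v hv, ← hR0 v' hv', h]
    refine funext fun i => Fin.lastCases ?_ (fun j => ?_) i
    · exact Fin.ext ((last_of_pinned hv).trans (last_of_pinned hv').symm)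
    · have ej : (v j.castSucc : ℕ) - p v = (v' j.castSucc : ℕ) - p v' := by rw [← hRs v hv, ← hRs v' hv', h]
      exact Fin.ext (by have := h2 j; have := h2' j; omega)
  have himg : (pinned (m + 1) N).image R = pinned (m + 1) N :=
    Finset.eq_of_subset_of_card_le (Finset.image_subset_iff.mpr hmem) (Finset.card_image_of_injOn hinj).ge
  conv_lhs => rw [← himg, Finset.sum_image hinj]
  rw [Finset.mul_sum]
  refine Finset.sum_congr rfl fun v hv => ?_
  obtain ⟨h1, h2, h3⟩ := facts v hv
  let w : Fin (m + 2) → ℕ := Function.update (fun j => (v j : ℕ)) (Fin.last (m + 1)) N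
  have hw : G x y w = a * b * G x y (fun j => (v j : ℕ)) := by
    rw [← G_update_add x y hx hy (fun j => (v j : ℕ)) (Fin.last (m + 1))]
    simp only [w, last_of_pinned hv, zero_add]
  rw [← hw, ← G_add_const x y hx1 hy1 (fun j => (R v j : ℕ)) (p v), ← G_perm x y _ (finRotate (m + 2))]
  congr 1
  refine funext fun i => Fin.lastCases ?_ (fun j => ?_) i
  · rw [Function.comp_apply, finRotate_last, hR0 v hv]
    simp only [w, Function.update_self]
    omega
  · rw [Function.comp_apply, finRotate_succ_apply, Fin.coeSucc_eq_succ, hRs v hv]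
    simp only [w, Function.update_of_ne (Fin.castSucc_lt_last j).ne]
    have := h2 j
    omega

/-- `exp (2πi e / (r N))`. -/
noncomputable def E (r N : ℕ) (e : ℤ) : ℂ :=
  Complex.exp (2 * Real.pi * Complex.I * (e : ℂ) / ((r : ℂ) * (N : ℂ)))

lemma E_add (e f : ℤ) : E r N (e + f) = E r N e * E r N f := by
  rw [E, E, E, ← Complex.exp_add]
  congr 1
  push_cast
  ring

@[simp] lemma E_zero : E r N 0 = 1 := by simp [E]

lemma E_pow (e : ℤ) (t : ℕ) : E r N e ^ t = E r N (e * t) := by
  rw [E, E, ← Complex.exp_nat_mul]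
  congr 1
  push_cast
  ring

lemma E_sum {ι : Type*} (s : Finset ι) (f : ι → ℤ) : E r N (∑ i ∈ s, f i) = ∏ i ∈ s, E r N (f i) := by
  classical
  induction s using Finset.induction_on with
  | empty => simp
  | insert i s hi ih => rw [Finset.sum_insert hi, Finset.prod_insert hi, E_add, ih]

lemma E_eq_one_iff (hr : 0 < r) (hN : 0 < N) (e : ℤ) : E r N e = 1 ↔ ((r : ℤ) * N) ∣ e := by
  have hr' : (r : ℂ) ≠ 0 := Nat.cast_ne_zero.mpr hr.ne'
  have hN' : (N : ℂ) ≠ 0 := Nat.cast_ne_zero.mpr hN.ne'
  rw [E, Complex.exp_eq_one_iff]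
  constructor
  · rintro ⟨t, ht⟩
    refine ⟨t, ?_⟩
    have h2 : (2 * (Real.pi : ℂ) * Complex.I) ≠ 0 := by simp [Real.pi_ne_zero, Complex.I_ne_zero]
    have : (2 * (Real.pi : ℂ) * Complex.I) * (e : ℂ) = (2 * (Real.pi : ℂ) * Complex.I) * (((r : ℂ) * N) * t) := by
      field_simp at ht
      linear_combination (2 * (Real.pi : ℂ) * Complex.I) * ht
    exact_mod_cast mul_left_cancel₀ h2 this
  · rintro ⟨t, rfl⟩
    refine ⟨t, ?_⟩
    push_cast
    field_simp

/-- The bases of a twisted alternant. -/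
noncomputable def tw (N : ℕ) (p : Fin r → ℤ) (i : Fin r) : ℂ := E r N ((r : ℤ) * p i - ∑ j, p j)

lemma prod_tw (p : Fin r → ℤ) : ∏ i, tw N p i = 1 := by
  simp only [tw, ← E_sum, Finset.sum_sub_distrib, ← Finset.mul_sum, Finset.sum_const, Finset.card_univ,
    Fintype.card_fin, nsmul_eq_mul, sub_self, E_zero]

lemma tw_pow (hr : 0 < r) (hN : 0 < N) (p : Fin r → ℤ) (i : Fin r) :
    tw N p i ^ N = E r N (-(∑ j, p j) * N) := by
  rw [tw, E_pow, show ((r : ℤ) * p i - ∑ j, p j) * N = (r : ℤ) * N * p i + -(∑ j, p j) * N by ring, E_add,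
    (E_eq_one_iff hr hN _).mpr (dvd_mul_right _ _), one_mul]

/-- The orthogonality relation. -/
theorem sum_eq_zero [NeZero N] (p q : Fin (n + 1) → ℤ)
    (h : ¬ ∃ π : Equiv.Perm (Fin (n + 1)), ∀ i,
      (((n + 1 : ℕ) : ℤ) * N) ∣ ((n + 1 : ℕ) : ℤ) * (p i + q (π i)) - (∑ j, p j + ∑ j, q j)) :
    ∑ v ∈ pinned n N, G (tw N p) (tw N q) (fun j => (v j : ℕ)) = 0 := by
  classical
  have hN : 0 < N := Nat.pos_of_ne_zero (NeZero.ne N)
  have hr : 0 < n + 1 := Nat.succ_pos n
  set c := E (n + 1) N (-(∑ j, p j) * N) * E (n + 1) N (-(∑ j, q j) * N) with hc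
  by_cases hc1 : c = 1
  · refine (mul_eq_zero.mp (?_ : (n.factorial : ℂ) * _ = 0)).resolve_left (Nat.cast_ne_zero.mpr n.factorial_ne_zero)
    rw [factorial_mul_sum_pinned, sum_G_snoc]
    refine Finset.sum_eq_zero fun σ _ => Finset.sum_eq_zero fun τ _ => mul_eq_zero_of_right _ ?_
    by_contra hne
    refine h ⟨σ.symm.trans τ, fun i => ?_⟩
    replace hne := Finset.prod_ne_zero_iff.mp hne
    let D : Fin (n + 1) → ℤ := fun j =>
      ((n + 1 : ℕ) : ℤ) * (p (σ j) + q (τ j)) - (∑ j, p j + ∑ j, q j)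
    have hD : ∀ j : Fin n, (((n + 1 : ℕ) : ℤ) * N) ∣ D j.castSucc := by
      intro j
      have e : tw N p (σ j.castSucc) * tw N q (τ j.castSucc) = E (n + 1) N (D j.castSucc) := by
        rw [tw, tw, ← E_add]
        congr 1
        simp only [D]
        ring
      refine (E_eq_one_iff hr hN _).mp ?_
      rw [← e]
      by_contra hz
      refine hne j (mem_univ _) ?_
      have hpow : (tw N p (σ j.castSucc) * tw N q (τ j.castSucc)) ^ N = 1 := by
        rw [mul_pow, tw_pow hr hN, tw_pow hr hN, ← hc, hc1]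
      rw [Fin.sum_univ_eq_sum_range (fun t => (tw N p (σ j.castSucc) * tw N q (τ j.castSucc)) ^ t) N,
        geom_sum_eq hz, hpow, sub_self, zero_div]
    have hsum : ∑ j, D j = 0 := by
      simp only [D, Finset.sum_sub_distrib, ← Finset.mul_sum, Finset.sum_add_distrib, Equiv.sum_comp σ p,
        Equiv.sum_comp τ q, Finset.sum_const, Finset.card_univ, Fintype.card_fin, nsmul_eq_mul]
      push_cast
      ring
    have hall : ∀ j, (((n + 1 : ℕ) : ℤ) * N) ∣ D j := fun j => Fin.lastCases (by
      rw [Fin.sum_univ_castSucc] at hsum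
      rw [show D (Fin.last n) = -∑ j : Fin n, D j.castSucc by linarith]
      exact dvd_neg.mpr (Finset.dvd_sum fun j _ => hD j)) hD j
    simpa [D] using hall (σ.symm i)
  · cases n with
    | zero =>
      refine absurd ?_ hc1
      rw [hc, ← E_add, E_eq_one_iff hr hN]
      exact ⟨-(∑ j, p j) - ∑ j, q j, by push_cast; ring⟩
    | succ m =>
      have := sum_pinned_eq_mul (tw N p) (tw N q) (tw_pow hr hN p) (tw_pow hr hN q) (prod_tw p) (prod_tw q)
      rw [← hc] at this
      have h0 : (1 - c) * ∑ v ∈ pinned (m + 1) N, G (tw N p) (tw N q) (fun j => (v j : ℕ)) = 0 := by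
        linear_combination this
      exact (mul_eq_zero.mp h0).resolve_left (sub_ne_zero.mpr (Ne.symm hc1))

section Vandermonde

/-- The pairs `i < j`. -/
abbrev pairs (r : ℕ) : Finset (Fin r × Fin r) := (univ : Finset (Fin r × Fin r)).filter fun p => p.1 < p.2

lemma prod_pairs {M : Type*} [CommMonoid M] (f : Fin r → Fin r → M) :
    ∏ p ∈ pairs r, f p.1 p.2 = ∏ i, ∏ j ∈ Ioi i, f i j := by
  classical
  rw [pairs, Finset.prod_filter, ← Finset.univ_product_univ, Finset.prod_product]
  refine Finset.prod_congr rfl fun i _ => ?_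
  rw [← Finset.prod_filter]
  exact Finset.prod_congr (by ext; simp) fun _ _ => rfl

lemma det_delta (z : Fin r → ℂ) :
    (Matrix.of fun i j : Fin r => z j ^ (r - 1 - (i : ℕ))).det = ∏ p ∈ pairs r, (z p.1 - z p.2) := by
  rw [← Matrix.det_transpose, prod_pairs fun i j => z i - z j]
  have h := Matrix.det_projVandermonde (fun _ : Fin r => (1 : ℂ)) z
  simp only [one_mul] at h
  rw [← h]
  congr 1
  ext i j
  rw [Matrix.transpose_apply, Matrix.of_apply, Matrix.projVandermonde_apply, one_pow, one_mul, Fin.val_rev]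
  congr 1
  omega

lemma prod_pairs_mul (z : Fin r → ℂ) : ∏ p ∈ pairs r, z p.1 * z p.2 = ∏ j, z j ^ (r - 1) := by
  classical
  rw [Finset.prod_mul_distrib, prod_pairs fun i _ => z i, prod_pairs fun _ j => z j,
    Finset.prod_comm' (f := fun _ j => z j) (t' := univ) (s' := fun j => Finset.Iio j) (fun i j => by simp)]
  rw [← Finset.prod_mul_distrib]
  refine Finset.prod_congr rfl fun j _ => ?_
  rw [Finset.prod_const, Finset.prod_const, Fin.card_Ioi, Fin.card_Iio, ← pow_add]
  congr 1
  omega

/-- `(2 sin)²` as a product. -/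
lemma sq_two_sin_mul (α β : ℝ) :
    ((((2 : ℝ) * Real.sin (Real.pi * (α - β))) ^ 2 : ℝ) : ℂ) *
        (Complex.exp (2 * Real.pi * Complex.I * α) * Complex.exp (2 * Real.pi * Complex.I * β)) =
      -((Complex.exp (2 * Real.pi * Complex.I * α) - Complex.exp (2 * Real.pi * Complex.I * β)) ^ 2) := by
  push_cast
  rw [Complex.sin]
  have e1 : (Complex.exp (-((Real.pi : ℂ) * (α - β)) * Complex.I)) =
      Complex.exp ((Real.pi : ℂ) * β * Complex.I) / Complex.exp ((Real.pi : ℂ) * α * Complex.I) := by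
    rw [← Complex.exp_sub]; congr 1; ring
  have e2 : (Complex.exp ((Real.pi : ℂ) * (α - β) * Complex.I)) =
      Complex.exp ((Real.pi : ℂ) * α * Complex.I) / Complex.exp ((Real.pi : ℂ) * β * Complex.I) := by
    rw [← Complex.exp_sub]; congr 1; ring
  have e3 : ∀ γ : ℂ, Complex.exp (2 * Real.pi * Complex.I * γ) = Complex.exp ((Real.pi : ℂ) * γ * Complex.I) ^ 2 := by
    intro γ
    rw [← Complex.exp_nat_mul]; congr 1; push_cast; ring
  rw [e1, e2, e3, e3]
  have ha := Complex.exp_ne_zero ((Real.pi : ℂ) * α * Complex.I)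
  have hb := Complex.exp_ne_zero ((Real.pi : ℂ) * β * Complex.I)
  generalize Complex.exp ((Real.pi : ℂ) * α * Complex.I) = a at ha ⊢
  generalize Complex.exp ((Real.pi : ℂ) * β * Complex.I) = b at hb ⊢
  field_simp
  linear_combination ((a ^ 2 - b ^ 2) ^ 2) * Complex.I_sq

variable (K : ℝ) (v : Fin r → ℕ) (z : Fin r → ℂ)
  (hz : ∀ j, z j = Complex.exp (2 * Real.pi * Complex.I * (v j : ℂ) / (K : ℂ)))

include hz in
lemma prod_two_sin_mul :
    ((∏ p ∈ pairs r, (((2 : ℝ) * Real.sin (Real.pi * ((v p.1 : ℝ) - (v p.2 : ℝ)) / K)) ^ 2 : ℝ) : ℝ) : ℂ) *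
      ∏ j, z j ^ (r - 1) = (-1) ^ (pairs r).card * (∏ p ∈ pairs r, (z p.1 - z p.2)) ^ 2 := by
  rw [← prod_pairs_mul, Complex.ofReal_prod, ← Finset.prod_mul_distrib, ← Finset.prod_pow]
  rw [← Finset.prod_const, ← Finset.prod_mul_distrib]
  refine Finset.prod_congr rfl fun p _ => ?_
  have h := sq_two_sin_mul ((v p.1 : ℝ) / K) ((v p.2 : ℝ) / K)
  have e : ∀ j, z j = Complex.exp (2 * Real.pi * Complex.I * (((v j : ℝ) / K : ℝ) : ℂ)) := fun j => by
    rw [hz j]; congr 1; push_cast; ring
  rw [← e, ← e] at h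
  rw [show Real.pi * ((v p.1 : ℝ) - (v p.2 : ℝ)) / K = Real.pi * ((v p.1 : ℝ) / K - (v p.2 : ℝ) / K) by ring]
  rw [h]
  ring

end Vandermonde

end GrothLib.Verlinde
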