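import Groth.Agent.Lib.Verlinde.Basic

/-!
# Schur values at roots of unity
-/

open Finset

namespace GrothLib.Verlinde

variable {r n N : ℕ}

lemma exp_eq_E (hr : 0 < r) (e : ℕ) (K : ℂ) (hK : K = (N : ℂ)) :
    Complex.exp (2 * Real.pi * Complex.I * (e : ℂ) / K) = E r N ((r : ℤ) * e) := by
  have hr' : (r : ℂ) ≠ 0 := Nat.cast_ne_zero.mpr hr.ne'
  rw [E, hK]
  congr 1
  push_cast
  field_simp

lemma E_ne_zero (e : ℤ) : E r N e ≠ 0 := Complex.exp_ne_zero _

lemma tw_pow_eq (p : Fin r → ℤ) (i : Fin r) (t : ℕ) :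
    tw N p i ^ t = E r N (-(∑ j, p j) * t) * E r N ((r : ℤ) * p i * t) := by
  rw [tw, E_pow, ← E_add]
  congr 1
  ring

/-- A twisted alternant as an alternant. -/
lemma det_tw (p : Fin r → ℤ) (w : Fin r → ℕ) :
    (Matrix.of fun i j => tw N p i ^ w j).det =
      E r N (-(∑ j, p j) * ∑ j, (w j : ℤ)) * (Matrix.of fun i j => E r N ((r : ℤ) * p i * w j)).det := by
  rw [Finset.mul_sum, E_sum, ← Matrix.det_mul_row]
  congr 1
  exact Matrix.ext fun i j => tw_pow_eq p i (w j)

lemma det_E_eq (p : Fin r → ℤ) (w : Fin r → ℕ) :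
    (Matrix.of fun i j => E r N ((r : ℤ) * p i * w j)).det =
      E r N ((∑ j, p j) * ∑ j, (w j : ℤ)) * (Matrix.of fun i j => tw N p i ^ w j).det := by
  rw [det_tw, ← mul_assoc, ← E_add, show (∑ j, p j) * ∑ j, (w j : ℤ) + -(∑ j, p j) * ∑ j, (w j : ℤ) = 0 by ring,
    E_zero, one_mul]

/-- Roots of unity from distinct residues are distinct. -/
lemma E_injective (hr : 0 < r) (v : Fin r → ℕ) (hv : Function.Injective v) (hlt : ∀ i, v i < N) :
    Function.Injective fun j => E r N ((r : ℤ) * v j) := by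
  intro i j h
  have hN : 0 < N := lt_of_le_of_lt (Nat.zero_le _) (hlt i)
  have h' : E r N ((r : ℤ) * v i - (r : ℤ) * v j) = 1 := by
    have h2 : E r N ((r : ℤ) * v i - (r : ℤ) * v j) * E r N ((r : ℤ) * v j) = 1 * E r N ((r : ℤ) * v j) := by
      rw [← E_add, sub_add_cancel, one_mul]; exact h
    exact mul_right_cancel₀ (E_ne_zero _) h2
  obtain ⟨t, ht⟩ := (E_eq_one_iff hr hN _).mp h'
  have hr' : (r : ℤ) ≠ 0 := by exact_mod_cast hr.ne'
  have h3 : (v i : ℤ) - v j = N * t := mul_left_cancel₀ hr' (by linear_combination ht)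
  have := hlt i
  have := hlt j
  have ht0 : t = 0 := by
    rcases lt_trichotomy t 0 with ht' | ht' | ht'
    · nlinarith
    · exact ht'
    · nlinarith
  subst ht0
  exact hv (by omega)

lemma prod_pairs_sub_ne_zero {z : Fin r → ℂ} (hz : Function.Injective z) :
    ∏ p ∈ pairs r, (z p.1 - z p.2) ≠ 0 :=
  Finset.prod_ne_zero_iff.mpr fun p hp => sub_ne_zero.mpr fun h => (mem_filter.mp hp).2.ne (hz h)

lemma pairs_neg (z : Fin r → ℂ) :
    ∏ p ∈ pairs r, (z p.2 - z p.1) = (-1) ^ (pairs r).card * ∏ p ∈ pairs r, (z p.1 - z p.2) := by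
  rw [← Finset.prod_const, ← Finset.prod_mul_distrib]
  exact Finset.prod_congr rfl fun p _ => by ring

/-- The sign of the reversal. -/
lemma sign_rev {z : Fin r → ℂ} (hz : Function.Injective z) :
    ((Equiv.Perm.sign (Fin.revPerm : Equiv.Perm (Fin r)) : ℤ) : ℂ) = (-1) ^ (pairs r).card := by
  refine mul_right_cancel₀ (prod_pairs_sub_ne_zero hz) ?_
  rw [← pairs_neg, prod_pairs fun i j => z j - z i, ← Matrix.det_vandermonde, ← det_delta,
    ← Matrix.det_permute]
  rw [← Matrix.det_transpose]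
  congr 1
  ext i j
  simp [Matrix.vandermonde, Fin.val_rev]
  congr 1
  omega

/-- Cauchy–Binet for alternants. -/
lemma sum_G_strictAnti (x y : Fin r → ℂ) :
    ∑ w ∈ (univ : Finset (Fin r → Fin N)).filter StrictAnti, G x y (fun j => (w j : ℕ)) =
      (Matrix.of fun i j => ∑ t : Fin N, (x i * y j) ^ (t : ℕ)).det := by
  classical
  refine mul_left_cancel₀ (Nat.cast_ne_zero.mpr r.factorial_ne_zero : (r.factorial : ℂ) ≠ 0) ?_
  rw [factorial_mul_sum_strictAnti (fun w : Fin r → Fin N => G x y fun j => (w j : ℕ))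
    (fun v π => G_perm x y (fun j => (v j : ℕ)) π)
    (fun v hv => by
      obtain ⟨i, j, h, hij⟩ := Function.not_injective_iff.mp hv
      exact G_eq_zero x y _ hij (by simp [h]))]
  set M := Matrix.of fun i j => ∑ t : Fin N, (x i * y j) ^ (t : ℕ)
  have hτ : ∀ τ : Equiv.Perm (Fin r), ∑ σ : Equiv.Perm (Fin r),
      ((Equiv.Perm.sign σ : ℂ) * (Equiv.Perm.sign τ : ℂ)) * ∏ j, M (σ j) (τ j) = M.det := by
    intro τ
    have h2 := Matrix.det_permute' τ M
    rw [Matrix.det_apply'] at h2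
    calc ∑ σ : Equiv.Perm (Fin r), ((Equiv.Perm.sign σ : ℂ) * (Equiv.Perm.sign τ : ℂ)) * ∏ j, M (σ j) (τ j)
        = (Equiv.Perm.sign τ : ℂ) * ∑ σ : Equiv.Perm (Fin r), (Equiv.Perm.sign σ : ℂ) * ∏ j, M (σ j) (τ j) := by
          rw [Finset.mul_sum]; exact Finset.sum_congr rfl fun σ _ => by ring
      _ = M.det := by
          simp only [Matrix.submatrix_apply, id_eq] at h2
          rw [h2, ← mul_assoc, ← Int.cast_mul, Int.units_coe_mul_self, Int.cast_one, one_mul]
  calc ∑ u : Fin r → Fin N, G x y (fun j => (u j : ℕ))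
      = ∑ τ : Equiv.Perm (Fin r), ∑ σ : Equiv.Perm (Fin r),
          ((Equiv.Perm.sign σ : ℂ) * (Equiv.Perm.sign τ : ℂ)) * ∏ j, M (σ j) (τ j) := by
        simp only [G, Matrix.det_apply', Matrix.of_apply, Finset.sum_mul_sum, M]
        rw [Finset.sum_comm]
        conv_lhs => enter [2, σ]; rw [Finset.sum_comm]
        rw [Finset.sum_comm]
        refine Finset.sum_congr rfl fun σ _ => ?_
        refine Finset.sum_congr rfl fun τ _ => ?_
        rw [Fintype.prod_sum, Finset.mul_sum]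
        refine Finset.sum_congr rfl fun u _ => ?_
        simp only [mul_pow, Finset.prod_mul_distrib]
        ring
    _ = (r.factorial : ℂ) * M.det := by
        simp only [hτ, Finset.sum_const, Finset.card_univ, Fintype.card_perm, Fintype.card_fin, nsmul_eq_mul]

/-- An integer vector with small spread satisfying the congruences is constant. -/
lemma eq_of_dvd {f : Fin r → ℤ} (N : ℕ) (hspread : ∀ i j, f i - f j < 2 * (N : ℤ))
    (hd : ∀ i, ((r : ℤ) * N) ∣ (r : ℤ) * f i - ∑ j, f j) (i j : Fin r) : f i = f j := by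
  have hr : 0 < r := Fin.pos i
  have hr' : (r : ℤ) ≠ 0 := by exact_mod_cast hr.ne'
  choose e he using hd
  have hN : 0 < (N : ℤ) := by have := hspread i i; omega
  have hse : ∑ i, e i = 0 := by
    have : ((r : ℤ) * N) * ∑ i, e i = 0 := by
      rw [Finset.mul_sum, ← Finset.sum_congr rfl fun i _ => he i, Finset.sum_sub_distrib, ← Finset.mul_sum,
        Finset.sum_const, Finset.card_univ, Fintype.card_fin, nsmul_eq_mul, sub_self]
    exact (mul_eq_zero.mp this).resolve_left (mul_ne_zero hr' hN.ne')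
  have hdiff : ∀ i j, f i - f j = N * (e i - e j) := fun i j =>
    mul_left_cancel₀ hr' (by linear_combination he i - he j)
  have hstep : ∀ i j, e i - e j ≤ 1 := fun i j => by
    have := hspread i j
    rw [hdiff] at this
    nlinarith
  suffices h : ∀ i j, e i = e j by
    have := hdiff i j
    rw [h i j, sub_self, mul_zero, sub_eq_zero] at this
    exact this
  by_contra hne
  push Not at hne
  obtain ⟨i₀, j₀, hij⟩ := hne
  have hm : (univ : Finset (Fin r)).Nonempty := ⟨i₀, mem_univ _⟩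
  obtain ⟨l, -, hl⟩ := Finset.exists_min_image univ e hm
  have h1 : ∀ i, e l ≤ e i ∧ e i ≤ e l + 1 := fun i => ⟨hl i (mem_univ _), by have := hstep i l; omega⟩
  have h2 : ∃ i, e i = e l + 1 := by
    by_contra h
    push Not at h
    have := h1 i₀; have := h1 j₀; have := h i₀; have := h j₀
    omega
  obtain ⟨i₁, hi₁⟩ := h2
  have hlo : ∑ _i : Fin r, e l < ∑ i, e i :=
    Finset.sum_lt_sum (fun i _ => (h1 i).1) ⟨i₁, mem_univ _, by omega⟩
  have hhi : ∑ i, e i < ∑ _i : Fin r, (e l + 1) :=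
    Finset.sum_lt_sum (fun i _ => (h1 i).2) ⟨l, mem_univ _, by omega⟩
  rw [hse, Finset.sum_const, Finset.card_univ, Fintype.card_fin, nsmul_eq_mul] at hlo hhi
  rcases le_or_gt 0 (e l) with h | h <;> nlinarith

lemma two_mul_sum_delta : 2 * (∑ i : Fin r, ((r - 1 - (i : ℕ) : ℕ) : ℤ)) = (r : ℤ) * (r - 1 : ℕ) := by
  have h := Equiv.sum_comp (Fin.revPerm : Equiv.Perm (Fin r)) fun i : Fin r => ((i : ℕ) : ℤ)
  simp only [Fin.revPerm_apply, Fin.val_rev] at h
  rw [two_mul]
  conv_lhs => arg 2; rw [show ∑ i : Fin r, ((r - 1 - (i : ℕ) : ℕ) : ℤ) = ∑ i : Fin r, ((i : ℕ) : ℤ) from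
    h ▸ Finset.sum_congr rfl fun i _ => by congr 1; omega]
  rw [← Finset.sum_add_distrib, Finset.sum_eq_card_nsmul (fun i _ => ?_), Finset.card_univ, Fintype.card_fin,
    nsmul_eq_mul]
  have := i.2
  omega

/-- The exponents `μ + δ` are strictly decreasing. -/
lemma strictAnti_add_delta {μ : Fin r → ℕ} (hμ : Antitone μ) :
    StrictAnti fun i => μ i + (r - 1 - (i : ℕ)) := by
  intro i j hij
  have := hμ hij.le
  have := j.2
  have : (i : ℕ) < j := hij
  show μ j + _ < μ i + _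
  omega

end GrothLib.Verlinde
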